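import Groth.Agent.AffContLib.Glue
import Groth.Agent.AlgSpLib.ReducedStalk
import Groth.Agent.FFDescLib.Closure
import Mathlib.AlgebraicGeometry.Morphisms.Flat
import Mathlib.AlgebraicGeometry.Morphisms.Preimmersion
import Mathlib.AlgebraicGeometry.Morphisms.QuasiSeparated

/-!
# Spreading out functions from an affine scheme with local isomorphisms on stalks
-/

set_option autoImplicit false
universe u

open CategoryTheory CategoryTheory.Limits AlgebraicGeometry TopologicalSpace Opposite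

namespace AffContLib

variable {X Y : Scheme.{u}}

theorem bijective_stalkMap_of_flat_preimmersion (g : Y ⟶ X) [Flat g] [IsPreimmersion g] (y : Y) :
    Function.Bijective (g.stalkMap y) := by
  have h := Flat.stalkMap g y
  refine ⟨?_, g.stalkMap_surjective y⟩
  algebraize [(g.stalkMap y).hom]
  have : Module.FaithfullyFlat (X.presheaf.stalk (g y)) (Y.presheaf.stalk y) :=
    @Module.FaithfullyFlat.of_flat_of_isLocalHom _ _ _ _ _ _ _ h (g.toLRSHom.prop y)
  exact RingHom.FaithfullyFlat.injective (f := (g.stalkMap y).hom) ‹_›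

theorem isIso_stalkMap_of_flat_preimmersion (g : Y ⟶ X) [Flat g] [IsPreimmersion g] (y : Y) :
    IsIso (g.stalkMap y) :=
  (ConcreteCategory.isIso_iff_bijective _).2 (bijective_stalkMap_of_flat_preimmersion g y)

/-- Generisations of a point with isomorphic local rings. -/
theorem generization_facts (f : Y ⟶ X) (t : Y) (ht : IsIso (f.stalkMap t)) :
    (∀ y, y ⤳ t → IsIso (f.stalkMap y)) ∧
    (∀ y y', y ⤳ t → y' ⤳ t → f y = f y' → y = y') ∧
    ∀ x, x ⤳ f t → ∃ y, y ⤳ t ∧ f y = x := by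
  let e := Spec.map (f.stalkMap t)
  haveI : IsIso e := inferInstance
  have sq : e ≫ X.fromSpecStalk (f t) = Y.fromSpecStalk t ≫ f := Scheme.SpecMap_stalkMap_fromSpecStalk f
  have hrY : ∀ y, y ⤳ t → ∃ z, Y.fromSpecStalk t z = y := fun y hy => by
    have : y ∈ Set.range (Y.fromSpecStalk t) := by rw [Scheme.range_fromSpecStalk]; exact hy
    exact this
  have hinjX : Function.Injective (e ≫ X.fromSpecStalk (f t)) :=
    (X.fromSpecStalk (f t)).isEmbedding.injective.comp e.isEmbedding.injective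
  refine ⟨fun y hy => ?_, fun y y' hy hy' hyy => ?_, fun x hx => ?_⟩
  · obtain ⟨z, rfl⟩ := hrY y hy
    haveI := AlgSpLib.flat_fromSpecStalk t
    haveI := AlgSpLib.flat_fromSpecStalk (f t)
    haveI h2 := isIso_stalkMap_of_flat_preimmersion (Y.fromSpecStalk t) z
    haveI h3 : IsIso ((e ≫ X.fromSpecStalk (f t)).stalkMap z) := by
      rw [Scheme.Hom.stalkMap_comp]
      exact IsIso.comp_isIso' (isIso_stalkMap_of_flat_preimmersion (X.fromSpecStalk (f t)) (e z))
        (inferInstance : IsIso (e.stalkMap z))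
    rw [sq, Scheme.Hom.stalkMap_comp] at h3
    exact @IsIso.of_isIso_comp_right _ _ _ _ _ (f.stalkMap (Y.fromSpecStalk t z))
      ((Y.fromSpecStalk t).stalkMap z) h2 h3
  · obtain ⟨z, rfl⟩ := hrY y hy
    obtain ⟨z', rfl⟩ := hrY y' hy'
    rw [← Scheme.Hom.comp_apply, ← Scheme.Hom.comp_apply, ← sq] at hyy
    rw [hinjX hyy]
  · have : x ∈ Set.range (X.fromSpecStalk (f t)) := by rw [Scheme.range_fromSpecStalk]; exact hx
    obtain ⟨z, rfl⟩ := this
    obtain ⟨w, rfl⟩ := e.surjective z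
    refine ⟨Y.fromSpecStalk t w, ?_, by rw [← Scheme.Hom.comp_apply, ← sq]; rfl⟩
    have : Y.fromSpecStalk t w ∈ Set.range (Y.fromSpecStalk t) := ⟨w, rfl⟩
    rwa [Scheme.range_fromSpecStalk] at this

/-- Two points with isomorphic local rings over the same point and a common generisation agree. -/
theorem eq_of_common_generization [IsAffine Y] (f : Y ⟶ X) {P Q η : Y} (hP : η ⤳ P) (hQ : η ⤳ Q)
    (hf : f P = f Q) (hisoP : IsIso (f.stalkMap P)) (hisoQ : IsIso (f.stalkMap Q)) : P = Q := by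
  by_contra hne
  wlog hns : ¬ Q ⤳ P generalizing P Q
  · rw [not_not] at hns
    exact this hQ hP hf.symm hisoQ hisoP (Ne.symm hne) fun h => hne (h.antisymm hns).eq
  obtain ⟨o, ho, hPo, hQo⟩ := (not_specializes_iff_exists_open.1 hns)
  obtain ⟨_, ⟨_, ⟨a, rfl⟩, rfl⟩, hPa, hao⟩ := (isBasis_basicOpen Y).exists_subset_of_mem_open hPo ho
  have hQa : Q ∉ Y.basicOpen a := fun h => hQo (hao h)
  haveI := (generization_facts f P hisoP).1 η hP
  have bP := ConcreteCategory.bijective_of_isIso (f.stalkMap P)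
  have bQ := ConcreteCategory.bijective_of_isIso (f.stalkMap Q)
  have bη := ConcreteCategory.bijective_of_isIso (f.stalkMap η)
  obtain ⟨r, hr⟩ := bP.2 (Y.presheaf.germ ⊤ P trivial a)
  obtain ⟨r', hr'⟩ := bQ.2 (Y.presheaf.germ ⊤ Q trivial a)
  have hru : IsUnit r := by
    have h1 : IsUnit (Y.presheaf.germ ⊤ P trivial a) := (Scheme.mem_basicOpen Y a P trivial).1 hPa
    rw [← hr] at h1
    exact (isUnit_map_iff (f.stalkMap P).hom r).1 h1
  have hr'u : ¬ IsUnit r' := fun h => hQa ((Scheme.mem_basicOpen Y a Q trivial).2 (hr' ▸ h.map (f.stalkMap Q).hom))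
  let sP := X.presheaf.stalkSpecializes (hP.map f.continuous)
  let sQ := X.presheaf.stalkSpecializes (hQ.map f.continuous)
  have h1 : sP r = sQ r' := by
    apply bη.1
    rw [Scheme.Hom.stalkSpecializes_stalkMap_apply f η P hP r, Scheme.Hom.stalkSpecializes_stalkMap_apply f η Q hQ r',
      hr, hr', TopCat.Presheaf.germ_stalkSpecializes_apply, TopCat.Presheaf.germ_stalkSpecializes_apply]
  -- move `r'` into the stalk at `f P`
  let c := X.presheaf.stalkSpecializes (specializes_of_eq hf : f P ⤳ f Q)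
  have h2 : sP (c r') = sQ r' := by
    show (c ≫ sP) r' = _
    rw [TopCat.Presheaf.stalkSpecializes_comp]
  haveI : IsIso c := by
    refine ⟨X.presheaf.stalkSpecializes (specializes_of_eq hf.symm), ?_, ?_⟩ <;>
      rw [TopCat.Presheaf.stalkSpecializes_comp, TopCat.Presheaf.stalkSpecializes_refl]
  have hc : ¬ IsUnit (c r') := fun h => hr'u ((isUnit_map_iff c.hom r').1 h)
  have h3 : IsUnit (r - c r') := by
    have hm : c r' ∈ IsLocalRing.maximalIdeal (X.presheaf.stalk (f P)) := hc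
    by_contra h
    have : r - c r' ∈ IsLocalRing.maximalIdeal (X.presheaf.stalk (f P)) := h
    have := add_mem this hm
    rw [sub_add_cancel] at this
    exact this hru
  have h4 : sP (r - c r') = 0 := by rw [map_sub, h2, h1, sub_self]
  exact not_isUnit_zero (h4 ▸ h3.map sP.hom)

variable [QuasiSeparatedSpace X]

theorem quasiCompact_opensι {O : X.Opens} (hO : IsCompact (O : Set X)) : QuasiCompact O.ι := by
  rw [quasiCompact_iff_forall_isAffineOpen]
  intro U hU
  rw [O.ι.isOpenEmbedding.isEmbedding.isCompact_iff]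
  show IsCompact (O.ι '' (O.ι ⁻¹' (U : Set X)))
  rw [Set.image_preimage_eq_inter_range, Scheme.Opens.range_ι]
  exact QuasiSeparatedSpace.inter_isCompact (U : Set X) (O : Set X) U.isOpen hU.isCompact O.isOpen hO

/-- A closed subset of a quasi-compact open missing `range φ` has closure missing `range φ`. -/
theorem disjoint_closure {φ : Y ⟶ X} (hgen : ∀ y x, x ⤳ φ y → x ∈ Set.range φ) {O : X.Opens}
    (hO : IsCompact (O : Set X)) {E : Set O} (hE : IsClosed E) (hd : ∀ y, ∀ e ∈ E, φ y ≠ e.1) (y : Y) :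
    φ y ∉ closure (Subtype.val '' E) := by
  intro hy
  haveI := quasiCompact_opensι hO
  obtain ⟨e, he, hs⟩ := FFDescLib.exists_specializes_of_mem_closure_image O.ι (s := E) hE hy
  obtain ⟨z, hz⟩ := hgen y _ hs
  exact hd z e he hz

theorem isClosed_germ_ne_zero {W : X.Opens} (d : Γ(X, W)) :
    IsClosed {z : W | X.presheaf.germ W z.1 z.2 d ≠ 0} := by
  rw [← isOpen_compl_iff, isOpen_iff_forall_mem_open]
  intro z hz
  simp only [Set.mem_compl_iff, Set.mem_ofPred_eq, not_not] at hz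
  obtain ⟨W', hzW', i, i', he⟩ := X.presheaf.germ_eq z.1 z.2 z.2 d 0 (by rw [hz, map_zero])
  refine ⟨Subtype.val ⁻¹' (W' : Set X), fun w hw => ?_, W'.isOpen.preimage continuous_subtype_val, hzW'⟩
  simp only [Set.mem_compl_iff, Set.mem_ofPred_eq, not_not]
  rw [← TopCat.Presheaf.germ_res_apply X.presheaf i w.1 hw d, he, map_zero, map_zero]

/-- A function on an affine `Y` with isomorphisms on stalks spreads out to an open set. -/
theorem exists_spread [IsAffine Y] (φ : Y ⟶ X) (hiso : ∀ y, IsIso (φ.stalkMap y))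
    (hinj : Function.Injective φ) (g : Γ(Y, ⊤)) {U V : X.Opens} (hgU : Y.basicOpen g ≤ φ ⁻¹ᵁ U)
    (hgV : Y.basicOpen (1 - g) ≤ φ ⁻¹ᵁ V) (T : Set X) (hT : T.Finite) (hTφ : T ⊆ Set.range φ) :
    ∃ (R : X.Opens) (G : Γ(X, R)), T ⊆ R ∧ X.basicOpen G ≤ U ∧ X.basicOpen (1 - G) ≤ V := by
  classical
  have hgen : ∀ y x, x ⤳ φ y → x ∈ Set.range φ := fun y x hx =>
    let ⟨z, _, hz⟩ := (generization_facts φ y (hiso y)).2.2 x hx
    ⟨z, hz⟩
  haveI : CompactSpace Y := inferInstance
  haveI : QuasiCompact φ := by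
    haveI : IsAffine Y := ‹_›
    infer_instance
  haveI := hT.to_subtype
  choose y hy using fun t : T => hTφ t.2
  -- lift the germs
  have hlift : ∀ t : T, ∃ (R : X.Opens) (_ : IsAffineOpen R) (_ : (t : X) ∈ R) (G : Γ(X, R)),
      ∀ z (hz : φ z ∈ R), φ.stalkMap z (X.presheaf.germ R (φ z) hz G) = Y.presheaf.germ ⊤ z trivial g := by
    intro t
    haveI := hiso (y t)
    obtain ⟨r, hr⟩ := (ConcreteCategory.bijective_of_isIso (φ.stalkMap (y t))).2
      (Y.presheaf.germ ⊤ (y t) trivial g)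
    obtain ⟨W, hyW, G, rfl⟩ := X.presheaf.exists_germ_eq r
    obtain ⟨R₀, hR₀, hyR₀, hR₀W⟩ := exists_isAffineOpen_mem_and_subset hyW
    let G₀ := res hR₀W G
    let d : Γ(Y, φ ⁻¹ᵁ R₀) := (φ.app R₀).hom G₀ - Y.presheaf.map (homOfLE le_top).op g
    let E : Set (φ ⁻¹ᵁ R₀ : Y.Opens) := {z | Y.presheaf.germ _ z.1 z.2 d ≠ 0}
    have hdz : ∀ z (hz : φ z ∈ R₀), Y.presheaf.germ (φ ⁻¹ᵁ R₀) z hz d =
        φ.stalkMap z (X.presheaf.germ R₀ (φ z) hz G₀) - Y.presheaf.germ ⊤ z trivial g := fun z hz => by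
      simp only [d, map_sub]
      rw [Scheme.Hom.germ_stalkMap_apply φ R₀ z hz G₀, TopCat.Presheaf.germ_res_apply]
    have hd0 : Y.presheaf.germ (φ ⁻¹ᵁ R₀) (y t) hyR₀ d = 0 := by
      rw [hdz, sub_eq_zero, ← hr]
      congr 1
      exact TopCat.Presheaf.germ_res_apply X.presheaf (homOfLE hR₀W) _ hyR₀ G
    haveI : QuasiCompact (φ ⁻¹ᵁ R₀).ι := by
      haveI : QuasiSeparatedSpace Y := inferInstance
      exact quasiCompact_opensι (φ.isCompact_preimage hR₀.isCompact)
    have hnot : φ (y t) ∉ closure (((φ ⁻¹ᵁ R₀).ι ≫ φ) '' E) := by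
      intro hcl
      obtain ⟨z, hzE, hzs⟩ := FFDescLib.exists_specializes_of_mem_closure_image ((φ ⁻¹ᵁ R₀).ι ≫ φ)
        (isClosed_germ_ne_zero d) hcl
      obtain ⟨z', hz', hzz⟩ := (generization_facts φ (y t) (hiso _)).2.2 _ hzs
      have hzeq : z' = z.1 := hinj hzz
      subst hzeq
      refine hzE ?_
      have := congrArg (Y.presheaf.stalkSpecializes hz') hd0
      rwa [TopCat.Presheaf.germ_stalkSpecializes_apply, map_zero] at this
    obtain ⟨R, hR, hyR, hRle⟩ := exists_isAffineOpen_mem_and_subset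
      (U := R₀ ⊓ ⟨_, (isClosed_closure (s := ((φ ⁻¹ᵁ R₀).ι ≫ φ) '' E)).isOpen_compl⟩) ⟨hyR₀, hnot⟩
    refine ⟨R, hR, hy t ▸ hyR, res (hRle.trans inf_le_left) G₀, fun z hz => ?_⟩
    have hz0 : Y.presheaf.germ (φ ⁻¹ᵁ R₀) z (hRle hz).1 d = 0 := by
      by_contra hne
      exact (hRle hz).2 (subset_closure ⟨⟨z, (hRle hz).1⟩, hne, rfl⟩)
    rw [hdz, sub_eq_zero] at hz0
    rw [← hz0]
    congr 1
    exact TopCat.Presheaf.germ_res_apply X.presheaf (homOfLE (hRle.trans inf_le_left)) _ hz G₀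
  choose R hR hmem G hG using hlift
  let Ed : T × T → Set X := fun ij => closure (Subtype.val '' {x : (R ij.1 ⊓ R ij.2 : X.Opens) |
    X.presheaf.germ _ x.1 x.2 (res inf_le_left (G ij.1) - res inf_le_right (G ij.2)) ≠ 0})
  let EU : T → Set X := fun i => closure (Subtype.val '' {x : X.basicOpen (G i) | (x : X) ∉ U})
  let EV : T → Set X := fun i => closure (Subtype.val '' {x : X.basicOpen (1 - G i) | (x : X) ∉ V})
  let C : Set X := (⋃ ij, Ed ij) ∪ ((⋃ i, EU i) ∪ ⋃ i, EV i)
  have hC : IsClosed C := (isClosed_iUnion_of_finite fun _ => isClosed_closure).union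
    ((isClosed_iUnion_of_finite fun _ => isClosed_closure).union (isClosed_iUnion_of_finite fun _ => isClosed_closure))
  have hCT : ∀ t : T, (t : X) ∉ C := by
    intro t
    rw [← hy t]
    simp only [C, Set.mem_union, Set.mem_iUnion, not_or, not_exists]
    refine ⟨fun ij => ?_, fun i => ?_, fun i => ?_⟩
    · refine disjoint_closure hgen (QuasiSeparatedSpace.inter_isCompact _ _ (R ij.1).isOpen (hR ij.1).isCompact
        (R ij.2).isOpen (hR ij.2).isCompact) (isClosed_germ_ne_zero _) (fun z e he hze => he ?_) _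
      obtain ⟨x, hx⟩ := e
      simp only at hze
      subst hze
      haveI := hiso z
      apply (ConcreteCategory.bijective_of_isIso (φ.stalkMap z)).1
      rw [map_sub, map_sub, map_zero, res, res]
      erw [TopCat.Presheaf.germ_res_apply, TopCat.Presheaf.germ_res_apply]
      erw [hG ij.1 z hx.1, hG ij.2 z hx.2]
      rw [sub_self]
    · refine disjoint_closure hgen ((hR i).basicOpen _).isCompact
        (U.isOpen.preimage continuous_subtype_val).isClosed_compl (fun z e he hze => he ?_) _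
      obtain ⟨x, hx⟩ := e
      simp only at hze
      subst hze
      refine hgU ((Scheme.mem_basicOpen Y g z trivial).2 ?_)
      rw [← hG i z (X.basicOpen_le _ hx)]
      exact ((Scheme.mem_basicOpen X (G i) (φ z) (X.basicOpen_le _ hx)).1 hx).map (φ.stalkMap z).hom
    · refine disjoint_closure hgen ((hR i).basicOpen _).isCompact
        (V.isOpen.preimage continuous_subtype_val).isClosed_compl (fun z e he hze => he ?_) _
      obtain ⟨x, hx⟩ := e
      simp only at hze
      subst hze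
      refine hgV ((Scheme.mem_basicOpen (U := (⊤ : Y.Opens)) Y (1 - g) z trivial).2 ?_)
      rw [map_sub, map_one, ← hG i z (X.basicOpen_le _ hx), ← map_one (φ.stalkMap z).hom, ← map_sub,
        ← map_one (X.presheaf.germ (R i) (φ z) (X.basicOpen_le _ hx)).hom, ← map_sub]
      exact ((Scheme.mem_basicOpen X (1 - G i) (φ z) (X.basicOpen_le _ hx)).1 hx).map (φ.stalkMap z).hom
  let R' : T → X.Opens := fun i => R i ⊓ ⟨Cᶜ, hC.isOpen_compl⟩
  obtain ⟨G', hG', -⟩ := X.sheaf.existsUnique_gluing' R' (⨆ i, R' i) (fun i => homOfLE (le_iSup R' i)) le_rfl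
    (fun i => res inf_le_left (G i)) (by
      intro i j
      refine TopCat.Presheaf.section_ext X.sheaf _ _ _ fun x hx => ?_
      have h : ¬ (X.presheaf.germ (R i ⊓ R j) x ⟨hx.1.1, hx.2.1⟩
          (res inf_le_left (G i) - res inf_le_right (G j)) ≠ 0) := fun h =>
        hx.1.2 (Or.inl (Set.mem_iUnion.2 ⟨(i, j), subset_closure ⟨⟨x, hx.1.1, hx.2.1⟩, h, rfl⟩⟩))
      rw [not_not, map_sub, sub_eq_zero, res, res] at h
      erw [TopCat.Presheaf.germ_res_apply, TopCat.Presheaf.germ_res_apply] at h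
      erw [TopCat.Presheaf.germ_res_apply, TopCat.Presheaf.germ_res_apply, TopCat.Presheaf.germ_res_apply,
        TopCat.Presheaf.germ_res_apply]
      exact h)
  have hres : ∀ i, res (le_iSup R' i) G' = res inf_le_left (G i) := hG'
  let G'' : Γ(X, ⨆ i, R' i) := G'
  refine ⟨⨆ i, R' i, G'', fun t ht => Opens.mem_iSup.2 ⟨⟨t, ht⟩, hmem _, hCT ⟨t, ht⟩⟩, fun x hx => ?_, fun x hx => ?_⟩
  · obtain ⟨i, hi⟩ := Opens.mem_iSup.1 (X.basicOpen_le _ hx)
    have h1 : x ∈ X.basicOpen (res (le_iSup R' i) G') := by rw [basicOpen_res]; exact ⟨hi, hx⟩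
    rw [hres, basicOpen_res] at h1
    by_contra hn
    exact hi.2 (Or.inr (Or.inl (Set.mem_iUnion.2 ⟨i, subset_closure ⟨⟨x, h1.2⟩, hn, rfl⟩⟩)))
  · obtain ⟨i, hi⟩ := Opens.mem_iSup.1 (X.basicOpen_le _ hx)
    have h1 : x ∈ X.basicOpen (res (le_iSup R' i) (1 - G'')) := by rw [basicOpen_res]; exact ⟨hi, hx⟩
    rw [map_sub, map_one, hres, ← map_one (res (inf_le_left : R' i ≤ R i)), ← map_sub, basicOpen_res] at h1
    by_contra hn
    exact hi.2 (Or.inr (Or.inr (Set.mem_iUnion.2 ⟨i, subset_closure ⟨⟨x, h1.2⟩, hn, rfl⟩⟩)))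

end AffContLib
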