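import Groth.Agent.AffContLib.Basic
import Mathlib.AlgebraicGeometry.Morphisms.Affine

/-!
# An affine open around points of two affine opens, from a separating function
-/

set_option autoImplicit false
universe u

open CategoryTheory CategoryTheory.Limits AlgebraicGeometry TopologicalSpace Opposite

namespace AffContLib

variable {X : Scheme.{u}}

/-- Restriction. -/
noncomputable def res {W W' : X.Opens} (h : W ≤ W') : Γ(X, W') →+* Γ(X, W) :=
  (X.presheaf.map (homOfLE h).op).hom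

theorem res_res {W W' W'' : X.Opens} (h : W ≤ W') (h' : W' ≤ W'') (s : Γ(X, W'')) :
    res h (res h' s) = res (h.trans h') s := by
  show ((X.presheaf.map _) ≫ X.presheaf.map _).hom s = _
  rw [← X.presheaf.map_comp]
  rfl

theorem basicOpen_res {W W' : X.Opens} (h : W ≤ W') (s : Γ(X, W')) :
    X.basicOpen (res h s) = W ⊓ X.basicOpen s := Scheme.basicOpen_res _ _ _

theorem isUnit_res {W W' : X.Opens} (s : Γ(X, W')) (h : W ≤ X.basicOpen s)
    (h' : W ≤ W' := h.trans (X.basicOpen_le s)) : IsUnit (res h' s) := by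
  have h1 : IsUnit (res (X.basicOpen_le s) s) := X.toRingedSpace.isUnit_res_basicOpen s
  have h2 := h1.map (res h)
  rwa [res_res] at h2

/-- Sections on two opens glue. -/
theorem exists_glue {W₁ W₂ : X.Opens} (a : Γ(X, W₁)) (b : Γ(X, W₂))
    (h : res (inf_le_left : W₁ ⊓ W₂ ≤ W₁) a = res (inf_le_right : W₁ ⊓ W₂ ≤ W₂) b) :
    ∃ c : Γ(X, W₁ ⊔ W₂), res le_sup_left c = a ∧ res le_sup_right c = b := by
  let U : Bool → X.Opens := fun t => if t then W₁ else W₂
  let sf : ∀ t : Bool, Γ(X, U t) := fun t => match t with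
    | true => a
    | false => b
  obtain ⟨c, hc, -⟩ := X.sheaf.existsUnique_gluing' U (W₁ ⊔ W₂)
    (fun t => homOfLE (by cases t <;> simp [U]))
    (by
      refine sup_le ?_ ?_
      · exact le_iSup U true
      · exact le_iSup U false) sf (by
      intro s t
      rcases s <;> rcases t
      · rfl
      · show res (inf_le_left : W₂ ⊓ W₁ ≤ W₂) b = res (inf_le_right : W₂ ⊓ W₁ ≤ W₁) a
        have := congrArg (res (inf_comm W₁ W₂).ge) h
        rw [res_res, res_res] at this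
        exact this.symm
      · exact h
      · rfl)
  exact ⟨c, hc true, hc false⟩

theorem ext_of_sup {W₁ W₂ : X.Opens} {c c' : Γ(X, W₁ ⊔ W₂)} (h₁ : res le_sup_left c = res le_sup_left c')
    (h₂ : res le_sup_right c = res le_sup_right c') : c = c' :=
  X.sheaf.eq_of_locally_eq₂ (homOfLE le_sup_left) (homOfLE le_sup_right) le_rfl c c' h₁ h₂

/-- Affineness from generators of the unit ideal. -/
theorem isAffineOpen_of_span (W : X.Opens) (s : Set Γ(X, W)) (hs : Ideal.span s = ⊤)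
    (haff : ∀ f ∈ s, IsAffineOpen (X.basicOpen f)) : IsAffineOpen W := by
  refine isAffine_of_isAffineOpen_basicOpen (W.topIso.inv.hom '' s) ?_ ?_
  · rw [← Ideal.map_span, hs, Ideal.map_top]
  · rintro _ ⟨f, hf, rfl⟩
    rw [← W.ι.isAffineOpen_iff_of_isOpenImmersion, Scheme.image_basicOpen]
    have h0 : (W.ι.appIso ⊤).inv.hom (W.topIso.inv.hom f) = res (by rw [W.ι_image_top]) f := by
      simp only [Scheme.Opens.ι_appIso]
      rfl
    rw [h0, basicOpen_res, inf_eq_right.2 ((X.basicOpen_le f).trans (by rw [W.ι_image_top]))]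
    exact haff f hf

theorem subsingleton_bad {K : Type u} [Field K] (a : K) :
    {ℓ : ℕ | ℓ.Prime ∧ ∑ k ∈ Finset.range ℓ, a ^ k = 0}.Subsingleton := by
  intro ℓ ⟨hℓ, h1⟩ ℓ' ⟨hℓ', h2⟩
  by_contra hne
  by_cases ha : a = 1
  · simp only [ha, one_pow, Finset.sum_const, Finset.card_range, nsmul_eq_mul, mul_one] at h1 h2
    obtain ⟨q, hq⟩ := CharP.exists K
    have d1 := (CharP.cast_eq_zero_iff K q ℓ).1 h1
    have d2 := (CharP.cast_eq_zero_iff K q ℓ').1 h2
    have := Nat.eq_one_of_dvd_coprimes ((Nat.coprime_primes hℓ hℓ').2 hne) d1 d2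
    exact CharP.char_ne_one K q this
  · have p1 : a ^ ℓ = 1 := by rw [← sub_eq_zero, ← geom_sum_mul, h1, zero_mul]
    have p2 : a ^ ℓ' = 1 := by rw [← sub_eq_zero, ← geom_sum_mul, h2, zero_mul]
    have := pow_gcd_eq_one.2 ⟨p1, p2⟩
    rw [(Nat.coprime_primes hℓ hℓ').2 hne, pow_one] at this
    exact ha this

/-- Evaluation at a point. -/
noncomputable def ev {W : X.Opens} (x : X) (hx : x ∈ W) : Γ(X, W) →+* IsLocalRing.ResidueField (X.presheaf.stalk x) :=
  (IsLocalRing.residue _).comp (X.presheaf.germ W x hx).hom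

theorem mem_basicOpen_iff_ev {W : X.Opens} (x : X) (hx : x ∈ W) (f : Γ(X, W)) :
    x ∈ X.basicOpen f ↔ ev x hx f ≠ 0 := by
  rw [Scheme.mem_basicOpen X f x hx]
  exact (IsLocalRing.residue_ne_zero_iff_isUnit _).symm

/-- Two affine opens glued along complementary principal opens. -/
theorem exists_affine_of_inverse {U₁ V₁ : X.Opens} (hU : IsAffineOpen U₁) (hV : IsAffineOpen V₁)
    (a : Γ(X, U₁)) (b : Γ(X, V₁)) (ha : X.basicOpen a = U₁ ⊓ V₁) (hb : X.basicOpen b = U₁ ⊓ V₁)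
    (hab : res (inf_le_left : U₁ ⊓ V₁ ≤ U₁) a * res (inf_le_right : U₁ ⊓ V₁ ≤ V₁) b = 1)
    (T : Set X) (hT : T.Finite) (hTUV : T ⊆ (U₁ : Set X) ∪ V₁) :
    ∃ W : X.Opens, IsAffineOpen W ∧ T ⊆ W := by
  classical
  haveI := hT.to_subtype
  let bad : Set ℕ :=
    (⋃ x : {x : T // (x : X) ∈ U₁}, {ℓ | ℓ.Prime ∧ ∑ k ∈ Finset.range ℓ, (ev x.1.1 x.2 a) ^ k = 0}) ∪
    (⋃ x : {x : T // (x : X) ∈ V₁}, {ℓ | ℓ.Prime ∧ ∑ k ∈ Finset.range ℓ, (ev x.1.1 x.2 b) ^ k = 0})
  have hbad : bad.Finite := (Set.finite_iUnion fun x => (subsingleton_bad _).finite).union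
    (Set.finite_iUnion fun x => (subsingleton_bad _).finite)
  obtain ⟨ℓ, hℓ : ℓ.Prime, hℓn⟩ := Nat.infinite_setOfPred_prime.exists_notMem_finset hbad.toFinset
  rw [hbad.mem_toFinset] at hℓn
  obtain ⟨m, rfl⟩ : ∃ m, ℓ = m + 1 := ⟨ℓ - 1, (Nat.sub_add_cancel hℓ.one_lt.le).symm⟩
  have hm : 0 < m := by have := hℓ.two_le; omega
  let P := ∑ k ∈ Finset.range (m + 1), a ^ k
  let Q := ∑ k ∈ Finset.range (m + 1), b ^ k
  let W₁ := X.basicOpen P
  let W₂ := X.basicOpen Q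
  have hW₁ : W₁ ≤ U₁ := X.basicOpen_le _
  have hW₂ : W₂ ≤ V₁ := X.basicOpen_le _
  obtain ⟨p, hp⟩ : ∃ p : Γ(X, W₁), res hW₁ P * p = 1 := (isUnit_res P le_rfl hW₁).exists_right_inv
  obtain ⟨q, hq⟩ : ∃ q : Γ(X, W₂), res hW₂ Q * q = 1 := (isUnit_res Q le_rfl hW₂).exists_right_inv
  have hO : W₁ ⊓ W₂ ≤ U₁ ⊓ V₁ := inf_le_inf hW₁ hW₂
  have hTW : T ⊆ (W₁ ⊔ W₂ : X.Opens) := by
    intro x hx
    rcases hTUV hx with h | h
    · refine Or.inl ((mem_basicOpen_iff_ev x h P).2 ?_)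
      rw [map_sum]
      simp only [map_pow]
      exact fun h0 => hℓn (Or.inl (Set.mem_iUnion.2 ⟨⟨⟨x, hx⟩, h⟩, hℓ, h0⟩))
    · refine Or.inr ((mem_basicOpen_iff_ev x h Q).2 ?_)
      rw [map_sum]
      simp only [map_pow]
      exact fun h0 => hℓn (Or.inr (Set.mem_iUnion.2 ⟨⟨⟨x, hx⟩, h⟩, hℓ, h0⟩))
  have key : ∀ k ≤ m, res (inf_le_left : W₁ ⊓ W₂ ≤ W₁) (res hW₁ a ^ k * p) =
      res (inf_le_right : W₁ ⊓ W₂ ≤ W₂) (res hW₂ b ^ (m - k) * q) := by
    intro k hk
    set A := res (hO.trans inf_le_left) a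
    set B := res (hO.trans inf_le_right) b
    have hAB : A * B = 1 := by
      have := congrArg (res hO) hab
      rwa [map_mul, map_one, res_res, res_res] at this
    have hp' := congrArg (res (inf_le_left : W₁ ⊓ W₂ ≤ W₁)) hp
    have hq' := congrArg (res (inf_le_right : W₁ ⊓ W₂ ≤ W₂)) hq
    rw [map_mul, map_one, res_res] at hp' hq'
    simp only [P, Q, map_sum, map_pow] at hp' hq'
    simp only [map_mul, map_pow, res_res]
    set p' := res (inf_le_left : W₁ ⊓ W₂ ≤ W₁) p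
    set q' := res (inf_le_right : W₁ ⊓ W₂ ≤ W₂) q
    change A ^ k * p' = B ^ (m - k) * q'
    change (∑ i ∈ Finset.range (m + 1), A ^ i) * p' = 1 at hp'
    change (∑ i ∈ Finset.range (m + 1), B ^ i) * q' = 1 at hq'
    have hBm : B ^ m * (∑ i ∈ Finset.range (m + 1), A ^ i) = ∑ i ∈ Finset.range (m + 1), B ^ i := by
      rw [Finset.mul_sum, ← Finset.sum_range_reflect (fun i => B ^ i) (m + 1)]
      refine Finset.sum_congr rfl fun i hi => ?_
      have hi' : i ≤ m := Finset.mem_range_succ_iff.1 hi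
      rw [show m + 1 - 1 - i = m - i by omega]
      conv_lhs => rw [show B ^ m = B ^ (m - i) * B ^ i by rw [← pow_add, Nat.sub_add_cancel hi']]
      rw [mul_assoc, ← mul_pow, mul_comm B A, hAB, one_pow, mul_one]
    have hk1 : A ^ k * B ^ m = B ^ (m - k) := by
      conv_lhs => rw [show B ^ m = B ^ k * B ^ (m - k) by rw [← pow_add, Nat.add_sub_cancel' hk]]
      rw [← mul_assoc, ← mul_pow, hAB, one_pow, one_mul]
    rw [← hk1]
    linear_combination (-(A ^ k * p')) * hq' + (A ^ k * B ^ m * q') * hp' - (A ^ k * p' * q') * hBm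
  choose z hz₁ hz₂ using fun k : Fin (m + 1) =>
    exists_glue (res hW₁ a ^ (k : ℕ) * p) (res hW₂ b ^ (m - k) * q) (key k (Nat.lt_succ_iff.1 k.2))
  refine ⟨W₁ ⊔ W₂, isAffineOpen_of_span _ (Set.range z) ?_ ?_, hTW⟩
  · rw [Ideal.eq_top_iff_one, show (1 : Γ(X, W₁ ⊔ W₂)) = ∑ k, z k from ?_]
    · exact Ideal.sum_mem _ fun k _ => Ideal.subset_span ⟨k, rfl⟩
    refine ext_of_sup ?_ ?_
    · rw [map_one, map_sum]
      simp only [hz₁]
      rw [Fin.sum_univ_eq_sum_range (fun k => res hW₁ a ^ k * p) (m + 1), ← Finset.sum_mul]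
      simp only [P, map_sum, map_pow] at hp
      exact hp.symm
    · rw [map_one, map_sum]
      simp only [hz₂]
      rw [Fin.sum_univ_eq_sum_range (fun k => res hW₂ b ^ (m - k) * q) (m + 1), ← Finset.sum_mul]
      simp only [Q, map_sum, map_pow] at hq
      rw [show ∑ k ∈ Finset.range (m + 1), res hW₂ b ^ (m - k) = ∑ k ∈ Finset.range (m + 1), res hW₂ b ^ k by
        rw [← Finset.sum_range_reflect (fun i => res hW₂ b ^ i) (m + 1)]
        exact Finset.sum_congr rfl fun i hi => by rw [show m + 1 - 1 - i = m - i by omega]]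
      exact hq.symm
  · rintro _ ⟨k, rfl⟩
    have hpU : X.basicOpen p = W₁ := X.basicOpen_of_isUnit ⟨⟨p, res hW₁ P, by rw [mul_comm]; exact hp, hp⟩, rfl⟩
    have hqU : X.basicOpen q = W₂ := X.basicOpen_of_isUnit ⟨⟨q, res hW₂ Q, by rw [mul_comm]; exact hq, hq⟩, rfl⟩
    have e : X.basicOpen (z k) = X.basicOpen (res hW₁ a ^ (k : ℕ) * p) ⊔
        X.basicOpen (res hW₂ b ^ (m - k) * q) := by
      rw [← hz₁, ← hz₂, basicOpen_res, basicOpen_res, ← inf_sup_right, inf_eq_right.2 (X.basicOpen_le _)]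
    have h1 : IsAffineOpen W₁ := hU.basicOpen P
    have h2 : IsAffineOpen W₂ := hV.basicOpen Q
    by_cases hk0 : (k : ℕ) = 0
    · -- the first piece
      have hle : X.basicOpen (res hW₂ b ^ (m - k) * q) ≤ W₁ := by
        intro x hx
        have hxW₂ : x ∈ W₂ := X.basicOpen_le _ hx
        rw [Scheme.basicOpen_mul, X.basicOpen_pow _ (show 0 < m - k by omega), basicOpen_res, hb] at hx
        have hxO : x ∈ U₁ ⊓ V₁ := hx.1.2
        refine (mem_basicOpen_iff_ev x hxO.1 P).2 fun h0 => (mem_basicOpen_iff_ev x (hW₂ hxW₂) Q).1 hxW₂ ?_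
        rw [map_sum] at h0 ⊢
        simp only [map_pow] at h0 ⊢
        have hαβ : ev x hxO.1 a * ev x (hW₂ hxW₂) b = 1 := by
          have := congrArg (ev x hxO) hab
          rw [map_mul, map_one] at this
          simp only [ev, res, RingHom.comp_apply] at this ⊢
          erw [X.presheaf.germ_res_apply, X.presheaf.germ_res_apply] at this
          exact this
        rw [← Finset.sum_range_reflect, show ∑ j ∈ Finset.range (m + 1), ev x (hW₂ hxW₂) b ^ (m + 1 - 1 - j) =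
          ev x (hW₂ hxW₂) b ^ m * ∑ j ∈ Finset.range (m + 1), ev x hxO.1 a ^ j from ?_, h0, mul_zero]
        rw [Finset.mul_sum]
        refine Finset.sum_congr rfl fun j hj => ?_
        have hj' : j ≤ m := Finset.mem_range_succ_iff.1 hj
        rw [show m + 1 - 1 - j = m - j by omega]
        conv_rhs => rw [show ev x (hW₂ hxW₂) b ^ m = ev x (hW₂ hxW₂) b ^ (m - j) * ev x (hW₂ hxW₂) b ^ j by
          rw [← pow_add, Nat.sub_add_cancel hj']]
        rw [mul_assoc, ← mul_pow, mul_comm (ev x (hW₂ hxW₂) b) (ev x hxO.1 a), hαβ, one_pow, mul_one]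
      have he1 : X.basicOpen (res hW₁ a ^ (k : ℕ) * p) = W₁ := by rw [hk0, pow_zero, one_mul, hpU]
      rw [e, he1, sup_eq_left.2 hle]
      exact h1
    · -- the other pieces
      have hle : X.basicOpen (res hW₁ a ^ (k : ℕ) * p) ≤ X.basicOpen (res hW₂ b ^ (m - k) * q) := by
        intro x hx
        have hxW₁ : x ∈ W₁ := X.basicOpen_le _ hx
        rw [Scheme.basicOpen_mul, X.basicOpen_pow _ (Nat.pos_of_ne_zero hk0), basicOpen_res, ha] at hx
        have hxO : x ∈ U₁ ⊓ V₁ := hx.1.2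
        have hxW₂ : x ∈ W₂ := by
          refine (mem_basicOpen_iff_ev x hxO.2 Q).2 fun h0 => (mem_basicOpen_iff_ev x (hW₁ hxW₁) P).1 hxW₁ ?_
          rw [map_sum] at h0 ⊢
          simp only [map_pow] at h0 ⊢
          have hαβ : ev x (hW₁ hxW₁) a * ev x hxO.2 b = 1 := by
            have := congrArg (ev x hxO) hab
            rw [map_mul, map_one] at this
            simp only [ev, res, RingHom.comp_apply] at this ⊢
            erw [X.presheaf.germ_res_apply, X.presheaf.germ_res_apply] at this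
            exact this
          rw [← Finset.sum_range_reflect, show ∑ j ∈ Finset.range (m + 1), ev x (hW₁ hxW₁) a ^ (m + 1 - 1 - j) =
            ev x (hW₁ hxW₁) a ^ m * ∑ j ∈ Finset.range (m + 1), ev x hxO.2 b ^ j from ?_, h0, mul_zero]
          rw [Finset.mul_sum]
          refine Finset.sum_congr rfl fun j hj => ?_
          have hj' : j ≤ m := Finset.mem_range_succ_iff.1 hj
          rw [show m + 1 - 1 - j = m - j by omega]
          conv_rhs => rw [show ev x (hW₁ hxW₁) a ^ m = ev x (hW₁ hxW₁) a ^ (m - j) * ev x (hW₁ hxW₁) a ^ j by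
            rw [← pow_add, Nat.sub_add_cancel hj']]
          rw [mul_assoc, ← mul_pow, hαβ, one_pow, mul_one]
        rw [Scheme.basicOpen_mul, hqU]
        refine ⟨?_, hxW₂⟩
        rcases Nat.eq_zero_or_pos (m - k) with h0 | h0
        · rw [h0, pow_zero, X.basicOpen_of_isUnit isUnit_one]; exact hxW₂
        · rw [X.basicOpen_pow _ h0, basicOpen_res, hb]; exact ⟨hxW₂, hxO⟩
      rw [e, sup_eq_right.2 hle, Scheme.basicOpen_mul, hqU]
      rcases Nat.eq_zero_or_pos (m - k) with h0 | h0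
      · rw [h0, pow_zero, X.basicOpen_of_isUnit isUnit_one, inf_idem]; exact h2
      · rw [inf_eq_left.2 (X.basicOpen_le _)]; exact h2.basicOpen _

/-- A function separating `U \ V` from `V \ U` near `T` gives an affine open around `T`. -/
theorem exists_affine_of_separating {U V R : X.Opens} (hU : IsAffineOpen U) (hV : IsAffineOpen V)
    (g : Γ(X, R)) (hgU : X.basicOpen g ≤ U) (hgV : X.basicOpen (1 - g) ≤ V) (T : Set X) (hT : T.Finite)
    (hTR : T ⊆ R) : ∃ W : X.Opens, IsAffineOpen W ∧ T ⊆ W := by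
  have hRc : IsClosed ((R : Set X)ᶜ) := R.isOpen.isClosed_compl
  obtain ⟨s, hs, hsR⟩ := exists_basicOpen_avoiding hU hRc (T ∩ U) (hT.inter_of_left _) Set.inter_subset_right
    (Set.disjoint_left.2 fun x hx hn => hn (hTR hx.1))
  obtain ⟨r, hr, hrR⟩ := exists_basicOpen_avoiding hV hRc (T ∩ V) (hT.inter_of_left _) Set.inter_subset_right
    (Set.disjoint_left.2 fun x hx hn => hn (hTR hx.1))
  have hsR' : X.basicOpen s ≤ R := fun x hx => by_contra fun hn => Set.disjoint_left.1 hsR hx hn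
  have hrR' : X.basicOpen r ≤ R := fun x hx => by_contra fun hn => Set.disjoint_left.1 hrR hx hn
  let U₁ := X.basicOpen (res hsR' g)
  let V₁ := X.basicOpen (res hrR' (1 - g))
  have hU₁ : IsAffineOpen U₁ := (hU.basicOpen s).basicOpen _
  have hV₁ : IsAffineOpen V₁ := (hV.basicOpen r).basicOpen _
  have eU : U₁ = X.basicOpen s ⊓ X.basicOpen g := basicOpen_res _ _
  have eV : V₁ = X.basicOpen r ⊓ X.basicOpen (1 - g) := basicOpen_res _ _
  have hUR : U₁ ≤ R := eU.le.trans (inf_le_right.trans (X.basicOpen_le _))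
  have hVR : V₁ ≤ R := eV.le.trans (inf_le_right.trans (X.basicOpen_le _))
  have hUU : U₁ ≤ U := eU.le.trans (inf_le_left.trans (X.basicOpen_le _))
  have hVV : V₁ ≤ V := eV.le.trans (inf_le_left.trans (X.basicOpen_le _))
  have hTUV : T ⊆ (U₁ : Set X) ∪ V₁ := by
    intro x hx
    by_cases hg : x ∈ X.basicOpen g
    · exact Or.inl (eU.ge ⟨hs ⟨hx, hgU hg⟩, hg⟩)
    · have h1 : x ∈ X.basicOpen (1 - g) := by
        rw [mem_basicOpen_iff_ev x (hTR hx)] at hg ⊢
        rw [not_not] at hg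
        rw [map_sub, map_one, hg, sub_zero]
        exact one_ne_zero
      exact Or.inr (eV.ge ⟨hr ⟨hx, hgV h1⟩, h1⟩)
  -- the ratios
  obtain ⟨gi, hgi⟩ := (isUnit_res g (eU.le.trans inf_le_right) hUR).exists_right_inv
  obtain ⟨hi, hhi⟩ := (isUnit_res (1 - g) (eV.le.trans inf_le_right) hVR).exists_right_inv
  obtain ⟨si, hsi⟩ := (isUnit_res s (eU.le.trans inf_le_left) hUU).exists_right_inv
  obtain ⟨ri, hri⟩ := (isUnit_res r (eV.le.trans inf_le_left) hVV).exists_right_inv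
  set q₁ : Γ(X, U₁) := res hUR (1 - g) * gi
  set q₂ : Γ(X, V₁) := res hVR g * hi
  have hgiU : X.basicOpen gi = U₁ := X.basicOpen_of_isUnit ⟨⟨gi, res hUR g, by rw [mul_comm]; exact hgi, hgi⟩, rfl⟩
  have hhiU : X.basicOpen hi = V₁ := X.basicOpen_of_isUnit ⟨⟨hi, res hVR (1 - g), by rw [mul_comm]; exact hhi, hhi⟩, rfl⟩
  have hsiU : X.basicOpen si = U₁ := X.basicOpen_of_isUnit ⟨⟨si, res hUU s, by rw [mul_comm]; exact hsi, hsi⟩, rfl⟩
  have hriU : X.basicOpen ri = V₁ := X.basicOpen_of_isUnit ⟨⟨ri, res hVV r, by rw [mul_comm]; exact hri, hri⟩, rfl⟩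
  have eq₁ : X.basicOpen q₁ = U₁ ⊓ X.basicOpen (1 - g) := by
    simp only [q₁, Scheme.basicOpen_mul, basicOpen_res, hgiU]
    rw [inf_assoc, inf_comm (X.basicOpen (1 - g)), ← inf_assoc, inf_idem]
  have eq₂ : X.basicOpen q₂ = V₁ ⊓ X.basicOpen g := by
    simp only [q₂, Scheme.basicOpen_mul, basicOpen_res, hhiU]
    rw [inf_assoc, inf_comm (X.basicOpen g), ← inf_assoc, inf_idem]
  have hq₁V : X.basicOpen q₁ ≤ V := eq₁.le.trans (inf_le_right.trans hgV)
  have hq₂U : X.basicOpen q₂ ≤ U := eq₂.le.trans (inf_le_right.trans hgU)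
  haveI := hU₁.isLocalization_basicOpen q₁
  haveI := hV₁.isLocalization_basicOpen q₂
  obtain ⟨k₁, a₀, hk₁⟩ := IsLocalization.Away.surj (S := Γ(X, X.basicOpen q₁)) q₁ (res hq₁V r)
  obtain ⟨k₂, b₀, hk₂⟩ := IsLocalization.Away.surj (S := Γ(X, X.basicOpen q₂)) q₂ (res hq₂U s)
  change res hq₁V r * res (X.basicOpen_le q₁) q₁ ^ k₁ = res (X.basicOpen_le q₁) a₀ at hk₁
  change res hq₂U s * res (X.basicOpen_le q₂) q₂ ^ k₂ = res (X.basicOpen_le q₂) b₀ at hk₂
  let a : Γ(X, U₁) := a₀ * q₁ ^ (k₂ + 1) * si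
  let b : Γ(X, V₁) := b₀ * q₂ ^ (k₁ + 1) * ri
  have hO₁ : U₁ ⊓ V₁ = X.basicOpen q₁ ⊓ X.basicOpen r := by
    rw [eq₁, eV, inf_assoc, inf_comm (X.basicOpen r)]
  have hO₂ : U₁ ⊓ V₁ = X.basicOpen q₂ ⊓ X.basicOpen s := by
    rw [eq₂, inf_comm U₁, eU, inf_comm (X.basicOpen s), inf_assoc]
  have basic : ∀ {Z : X.Opens} (q y : Γ(X, Z)) {Y : X.Opens} (hY : X.basicOpen q ≤ Y) (w : Γ(X, Y)) (k : ℕ),
      res hY w * res (X.basicOpen_le q) q ^ k = res (X.basicOpen_le q) y →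
      X.basicOpen q ⊓ X.basicOpen y = X.basicOpen q ⊓ X.basicOpen w := by
    intro Z q y Y hY w k hk
    have := congrArg X.basicOpen hk
    rw [Scheme.basicOpen_mul, basicOpen_res, basicOpen_res] at this
    rw [← this]
    refine le_antisymm inf_le_left ?_
    refine le_inf le_rfl ?_
    rcases Nat.eq_zero_or_pos k with h0 | h0
    · rw [h0, pow_zero, X.basicOpen_of_isUnit isUnit_one]; exact inf_le_left
    · rw [X.basicOpen_pow _ h0, basicOpen_res]; exact le_inf inf_le_left inf_le_left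
  have ha : X.basicOpen a = U₁ ⊓ V₁ := by
    simp only [a, Scheme.basicOpen_mul, X.basicOpen_pow _ (Nat.succ_pos k₂), hsiU]
    rw [inf_comm (X.basicOpen a₀), basic q₁ a₀ hq₁V r k₁ hk₁, ← hO₁, inf_eq_left.2 inf_le_left]
  have hb : X.basicOpen b = U₁ ⊓ V₁ := by
    simp only [b, Scheme.basicOpen_mul, X.basicOpen_pow _ (Nat.succ_pos k₁), hriU]
    rw [inf_comm (X.basicOpen b₀), basic q₂ b₀ hq₂U s k₂ hk₂, ← hO₂, inf_eq_left.2 inf_le_right]
  refine exists_affine_of_inverse hU₁ hV₁ a b ha hb ?_ T hT hTUV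
  have hOq₁ : U₁ ⊓ V₁ ≤ X.basicOpen q₁ := hO₁.le.trans inf_le_left
  have hOq₂ : U₁ ⊓ V₁ ≤ X.basicOpen q₂ := hO₂.le.trans inf_le_left
  have E1 := congrArg (res hOq₁) hk₁
  have E2 := congrArg (res hOq₂) hk₂
  have G := congrArg (res (inf_le_left : U₁ ⊓ V₁ ≤ U₁)) hgi
  have H := congrArg (res (inf_le_right : U₁ ⊓ V₁ ≤ V₁)) hhi
  have S := congrArg (res (inf_le_left : U₁ ⊓ V₁ ≤ U₁)) hsi
  have R' := congrArg (res (inf_le_right : U₁ ⊓ V₁ ≤ V₁)) hri
  simp only [a, b, q₁, q₂, map_mul, map_pow, map_one, map_sub, res_res] at E1 E2 G H S R' ⊢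
  rw [← E1, ← E2]
  set G₀ := res (inf_le_left.trans hUR : U₁ ⊓ V₁ ≤ R) g
  set gi' := res (inf_le_left : U₁ ⊓ V₁ ≤ U₁) gi
  set hi' := res (inf_le_right : U₁ ⊓ V₁ ≤ V₁) hi
  set S₀ := res (inf_le_left.trans hUU : U₁ ⊓ V₁ ≤ U) s
  set si' := res (inf_le_left : U₁ ⊓ V₁ ≤ U₁) si
  set R₀ := res (inf_le_right.trans hVV : U₁ ⊓ V₁ ≤ V) r
  set ri' := res (inf_le_right : U₁ ⊓ V₁ ≤ V₁) ri
  calc (R₀ * ((1 - G₀) * gi') ^ k₁ * ((1 - G₀) * gi') ^ (k₂ + 1) * si') *
        (S₀ * (G₀ * hi') ^ k₂ * (G₀ * hi') ^ (k₁ + 1) * ri')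
      = (R₀ * ri') * (S₀ * si') * (((1 - G₀) * hi') * (G₀ * gi')) ^ (k₁ + k₂ + 1) := by
        generalize 1 - G₀ = H₀
        ring
    _ = 1 := by rw [R', S, H, G, mul_one, one_pow, mul_one]

end AffContLib
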