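import Groth.Agent.ChevLib.Main
import Mathlib.AlgebraicGeometry.Morphisms.Finite
import Mathlib.AlgebraicGeometry.Morphisms.ClosedImmersion
import Mathlib.AlgebraicGeometry.Limits

/-!
# Affine opens containing finitely many points of a union of closed subschemes
-/

set_option autoImplicit false
universe u

open CategoryTheory CategoryTheory.Limits AlgebraicGeometry TopologicalSpace

namespace AffContLib

/-- Davis' lemma: `h + I` avoids finitely many primes if no prime containing `I` contains `h`. -/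
theorem exists_add_notMem {R : Type u} [CommRing R] (I : Ideal R) (h : R) (s : Finset (PrimeSpectrum R))
    (hs : ∀ P ∈ s, I ≤ P.asIdeal → h ∉ P.asIdeal) : ∃ a ∈ I, ∀ P ∈ s, h + a ∉ P.asIdeal := by
  classical
  induction s using Finset.strongInduction with
  | H s ih =>
    rcases s.eq_empty_or_nonempty with rfl | hne
    · exact ⟨0, I.zero_mem, by simp⟩
    obtain ⟨P, hP⟩ := s.exists_minimal hne
    obtain ⟨a, haI, ha⟩ := ih (s.erase P) (Finset.erase_ssubset hP.1) fun Q hQ => hs Q (Finset.mem_of_mem_erase hQ)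
    by_cases hPa : h + a ∈ P.asIdeal
    swap
    · refine ⟨a, haI, fun Q hQ => ?_⟩
      by_cases hQP : Q = P
      · exact hQP ▸ hPa
      · exact ha Q (Finset.mem_erase.2 ⟨hQP, hQ⟩)
    have hIP : ¬ I ≤ P.asIdeal := fun hle => hs P hP.1 hle (by simpa using sub_mem hPa (hle haI))
    obtain ⟨b, hb, hbP⟩ := SetLike.not_le_iff_exists.1
      (show ¬ I ⊓ (s.erase P).inf (fun Q => Q.asIdeal) ≤ P.asIdeal from fun hle => by
        rcases P.isPrime.inf_le.1 hle with h1 | h1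
        · exact hIP h1
        · obtain ⟨Q, hQ, hQP⟩ := (Ideal.IsPrime.inf_le' P.isPrime).1 h1
          exact Finset.ne_of_mem_erase hQ (le_antisymm hQP (hP.2 (Finset.mem_of_mem_erase hQ) hQP)))
    refine ⟨a + b, I.add_mem haI hb.1, fun Q hQ => ?_⟩
    by_cases hQP : Q = P
    · subst hQP
      intro hm
      exact hbP (by simpa [← add_assoc] using sub_mem hm hPa)
    · intro hm
      have hbQ : b ∈ Q.asIdeal :=
        (Finset.inf_le (f := fun Q : PrimeSpectrum R => Q.asIdeal) (Finset.mem_erase.2 ⟨hQP, hQ⟩)) hb.2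
      exact ha Q (Finset.mem_erase.2 ⟨hQP, hQ⟩) (by simpa [← add_assoc] using sub_mem hm hbQ)

variable {X : Scheme.{u}} {U : X.Opens} (hU : IsAffineOpen U)

include hU in
theorem mem_basicOpen_iff (f : Γ(X, U)) (x : U) :
    (x : X) ∈ X.basicOpen f ↔ f ∉ (hU.primeIdealOf x).asIdeal := by
  rw [← PrimeSpectrum.mem_basicOpen, ← hU.fromSpec_preimage_basicOpen f]
  show _ ↔ hU.fromSpec (hU.primeIdealOf x) ∈ X.basicOpen f
  rw [hU.fromSpec_primeIdealOf]

include hU in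
theorem exists_basicOpen_avoiding {D : Set X} (hD : IsClosed D) (T : Set X) (hT : T.Finite)
    (hTU : T ⊆ U) (hTD : Disjoint T D) : ∃ f : Γ(X, U), T ⊆ X.basicOpen f ∧ Disjoint (X.basicOpen f : Set X) D := by
  classical
  obtain ⟨I, hI⟩ := (PrimeSpectrum.isClosed_iff_zeroLocus_ideal _).1 (hD.preimage hU.fromSpec.continuous)
  haveI : Finite T := hT.to_subtype
  haveI := Fintype.ofFinite T
  let s : Finset (PrimeSpectrum Γ(X, U)) :=
    Finset.univ.image fun t : T => hU.primeIdealOf ⟨t.1, hTU t.2⟩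
  obtain ⟨f, hf, hfs⟩ := exists_add_notMem I 0 s fun P hP hIP => by
    obtain ⟨t, -, rfl⟩ := Finset.mem_image.1 hP
    have h1 : hU.primeIdealOf ⟨t.1, hTU t.2⟩ ∈ hU.fromSpec ⁻¹' D := by rw [hI]; exact hIP
    change hU.fromSpec (hU.primeIdealOf ⟨t.1, hTU t.2⟩) ∈ D at h1
    rw [hU.fromSpec_primeIdealOf] at h1
    exact absurd h1 (Set.disjoint_left.1 hTD t.2)
  refine ⟨f, fun t ht => ?_, Set.disjoint_left.2 fun x hx hxD => ?_⟩
  · refine (mem_basicOpen_iff hU f ⟨t, hTU ht⟩).2 ?_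
    simpa using hfs _ (Finset.mem_image.2 ⟨⟨t, ht⟩, Finset.mem_univ _, rfl⟩)
  · have hxU : x ∈ U := X.basicOpen_le f hx
    refine (mem_basicOpen_iff hU f ⟨x, hxU⟩).1 hx ?_
    have h1 : hU.primeIdealOf ⟨x, hxU⟩ ∈ hU.fromSpec ⁻¹' D := by
      show hU.fromSpec (hU.primeIdealOf ⟨x, hxU⟩) ∈ D
      rw [hU.fromSpec_primeIdealOf]; exact hxD
    rw [hI] at h1
    exact h1 hf

/-- Two closed pieces with affine opens around `T` give an affine open around `T`. -/
theorem exists_affine_of_two {A B : Scheme.{u}} (i : A ⟶ X) (j : B ⟶ X) [IsClosedImmersion i]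
    [IsClosedImmersion j] (hcov : ∀ x : X, x ∈ Set.range i ∨ x ∈ Set.range j) (T : Set X) (hT : T.Finite)
    (hA : ∃ U : A.Opens, IsAffineOpen U ∧ i ⁻¹' T ⊆ U) (hB : ∃ V : B.Opens, IsAffineOpen V ∧ j ⁻¹' T ⊆ V) :
    ∃ W : X.Opens, IsAffineOpen W ∧ T ⊆ W := by
  classical
  obtain ⟨U, hU, hTU⟩ := hA
  obtain ⟨V, hV, hTV⟩ := hB
  let C := pullback i j
  let a : C ⟶ A := pullback.fst i j
  let b : C ⟶ B := pullback.snd i j
  have hab : ∀ c, i (a c) = j (b c) := fun c => by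
    rw [← Scheme.Hom.comp_apply, ← Scheme.Hom.comp_apply, pullback.condition]
  have hTA : (i ⁻¹' T).Finite := hT.preimage i.isClosedEmbedding.injective.injOn
  have hTB : (j ⁻¹' T).Finite := hT.preimage j.isClosedEmbedding.injective.injOn
  -- step 1
  have hD1 : IsClosed (b '' ((a ⁻¹ᵁ U : C.Opens) : Set C)ᶜ) :=
    b.isClosedEmbedding.isClosedMap _ (a ⁻¹ᵁ U).isOpen.isClosed_compl
  obtain ⟨h, hTh, hdh⟩ := exists_basicOpen_avoiding hV hD1 _ hTB hTV (Set.disjoint_left.2 fun y hy => by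
    rintro ⟨c, hc, rfl⟩
    exact hc (hTU (show i (a c) ∈ T by rw [hab]; exact hy)))
  set V1 := B.basicOpen h
  have hV1 : IsAffineOpen V1 := hV.basicOpen h
  let C1 : C.Opens := b ⁻¹ᵁ V1
  have hC1U : C1 ≤ a ⁻¹ᵁ U := fun c hc => by
    by_contra hn
    exact Set.disjoint_left.1 hdh hc ⟨c, hn, rfl⟩
  -- step 2
  have hD2 : IsClosed (a '' (C1 : Set C)ᶜ) :=
    a.isClosedEmbedding.isClosedMap _ C1.isOpen.isClosed_compl
  obtain ⟨f, hTf, hdf⟩ := exists_basicOpen_avoiding hU hD2 _ hTA hTU (Set.disjoint_left.2 fun x hx => by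
    rintro ⟨c, hc, rfl⟩
    exact hc (hTh (show j (b c) ∈ T by rw [← hab]; exact hx)))
  set U1 := A.basicOpen f
  have hU1C : a ⁻¹ᵁ U1 ≤ C1 := fun c hc => by
    by_contra hn
    exact Set.disjoint_left.1 hdf hc ⟨c, hn, rfl⟩
  let f' : Γ(C, C1) := (a.appLE U C1 hC1U).hom f
  have hC2 : C.basicOpen f' = a ⁻¹ᵁ U1 := by
    rw [show C.basicOpen f' = C1 ⊓ a ⁻¹ᵁ U1 from Scheme.basicOpen_appLE a C1 U hC1U f]
    exact inf_eq_right.2 hU1C
  -- step 3
  have hsurj : Function.Surjective (b.app V1).hom := b.app_surjective V1 hV1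
  obtain ⟨h₀, hh₀⟩ := hsurj f'
  let s : Finset (PrimeSpectrum Γ(B, V1)) :=
    hTB.toFinset.attach.image fun t => hV1.primeIdealOf ⟨t.1, hTh (hTB.mem_toFinset.1 t.2)⟩
  obtain ⟨k, hk, hks⟩ := exists_add_notMem (RingHom.ker (b.app V1).hom) h₀ s fun P hP hker => by
    obtain ⟨t, -, rfl⟩ := Finset.mem_image.1 hP
    have ht : j t.1 ∈ T := hTB.mem_toFinset.1 t.2
    by_contra hh
    by_cases htC : t.1 ∈ Set.range b
    · obtain ⟨c, hc⟩ := htC
      have hc2 : c ∈ C.basicOpen f' := by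
        rw [hC2]
        exact hTf (show i (a c) ∈ T by rw [hab, hc]; exact ht)
      have hc3 : c ∈ b ⁻¹ᵁ B.basicOpen h₀ := by
        rw [Scheme.preimage_basicOpen, hh₀]; exact hc2
      have : t.1 ∈ B.basicOpen h₀ := hc ▸ hc3
      exact (mem_basicOpen_iff hV1 h₀ ⟨t.1, hTh (hTB.mem_toFinset.1 t.2)⟩).1 this hh
    · -- some function vanishing on `C` does not vanish at `t`
      refine htC ?_
      have h1 : t.1 ∈ B.zeroLocus (U := V1) (b.ker.ideal ⟨V1, hV1⟩) ∩ (V1 : Set B) := by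
        refine ⟨(Scheme.mem_zeroLocus_iff _ _ _).2 fun g hg hgt => ?_, hTh (hTB.mem_toFinset.1 t.2)⟩
        rw [SetLike.mem_coe, Scheme.Hom.ker_apply] at hg
        exact (mem_basicOpen_iff hV1 g ⟨t.1, hTh (hTB.mem_toFinset.1 t.2)⟩).1 hgt (hker hg)
      rw [← Scheme.IdealSheafData.coe_support_inter, Scheme.Hom.support_ker] at h1
      have h2 := h1.1
      change t.1 ∈ closure (Set.range b) at h2
      rwa [b.isClosedEmbedding.isClosed_range.closure_eq] at h2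
  set V2 := B.basicOpen (h₀ + k)
  have hV2C : b ⁻¹ᵁ V2 = a ⁻¹ᵁ U1 := by
    rw [Scheme.preimage_basicOpen, map_add, hh₀, RingHom.mem_ker.1 hk, add_zero, hC2]
  have hTV2 : j ⁻¹' T ⊆ V2 := fun y hy =>
    (mem_basicOpen_iff hV1 (h₀ + k) ⟨y, hTh hy⟩).2 (hks _ (Finset.mem_image.2
      ⟨⟨y, hTB.mem_toFinset.2 hy⟩, Finset.mem_attach _ _, rfl⟩))
  have hU1 : IsAffineOpen U1 := hU.basicOpen f
  have hV2 : IsAffineOpen V2 := hV1.basicOpen _
  -- glue
  let W : X.Opens := ⟨(i '' (U1 : Set A)ᶜ ∪ j '' (V2 : Set B)ᶜ)ᶜ,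
    ((i.isClosedEmbedding.isClosedMap _ U1.isOpen.isClosed_compl).union
      (j.isClosedEmbedding.isClosedMap _ V2.isOpen.isClosed_compl)).isOpen_compl⟩
  have hmeet : ∀ x y, i x = j y → (x ∈ U1 ↔ y ∈ V2) := fun x y hxy => by
    obtain ⟨c, hcx, hcy⟩ := Scheme.Pullback.exists_preimage_pullback x y hxy
    rw [show x = a c from hcx.symm, show y = b c from hcy.symm]
    exact (SetLike.ext_iff.1 hV2C c).symm
  have hiW : i ⁻¹ᵁ W = U1 := by
    ext x
    refine ⟨fun hx => by_contra fun hn => hx (Or.inl ⟨x, hn, rfl⟩), fun hx => ?_⟩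
    rintro (⟨x', hx', he⟩ | ⟨y, hy, he⟩)
    · exact hx' (i.isClosedEmbedding.injective he ▸ hx)
    · exact hy ((hmeet x y he.symm).1 hx)
  have hjW : j ⁻¹ᵁ W = V2 := by
    ext y
    refine ⟨fun hy => by_contra fun hn => hy (Or.inr ⟨y, hn, rfl⟩), fun hy => ?_⟩
    rintro (⟨x, hx, he⟩ | ⟨y', hy', he⟩)
    · exact hx ((hmeet x y he).2 hy)
    · exact hy' (j.isClosedEmbedding.injective he ▸ hy)
  haveI : IsAffine (i ⁻¹ᵁ W).toScheme := hiW ▸ hU1
  haveI : IsAffine (j ⁻¹ᵁ W).toScheme := hjW ▸ hV2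
  haveI : IsFinite (coprod.desc (i ∣_ W) (j ∣_ W)) := inferInstance
  haveI : Surjective (coprod.desc (i ∣_ W) (j ∣_ W)) := ⟨fun w => by
    rcases hcov w.1 with ⟨x, hx⟩ | ⟨y, hy⟩
    · refine ⟨(coprod.inl : (i ⁻¹ᵁ W).toScheme ⟶ _) ⟨x, show i x ∈ W by rw [hx]; exact w.2⟩, ?_⟩
      rw [← Scheme.Hom.comp_apply, coprod.inl_desc]
      exact Subtype.ext (by rw [morphismRestrict_base_coe]; exact hx)
    · refine ⟨(coprod.inr : (j ⁻¹ᵁ W).toScheme ⟶ _) ⟨y, show j y ∈ W by rw [hy]; exact w.2⟩, ?_⟩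
      rw [← Scheme.Hom.comp_apply, coprod.inr_desc]
      exact Subtype.ext (by rw [morphismRestrict_base_coe]; exact hy)⟩
  refine ⟨W, ChevLib.isAffine_of_surjective_universallyClosed (coprod.desc (i ∣_ W) (j ∣_ W)), fun t ht => ?_⟩
  rcases hcov t with ⟨x, rfl⟩ | ⟨y, rfl⟩
  · exact (SetLike.ext_iff.1 hiW x).2 (hTf ht)
  · exact (SetLike.ext_iff.1 hjW y).2 (hTV2 ht)

end AffContLib
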