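import Groth.Agent.AffContLib.Basic

/-!
# Finitely many closed pieces
-/

set_option autoImplicit false
universe u

open CategoryTheory CategoryTheory.Limits AlgebraicGeometry TopologicalSpace

namespace AffContLib

variable {X : Scheme.{u}}

/-- The closed set `Z` has an affine open around `T`. -/
def Has (T : Set X) (Z : Set X) : Prop :=
  ∃ (A : Scheme.{u}) (i : A ⟶ X), IsClosedImmersion i ∧ Set.range i = Z ∧
    ∃ U : A.Opens, IsAffineOpen U ∧ i ⁻¹' T ⊆ U

theorem Has.union {T Z Z' : Set X} (hT : T.Finite) (h : Has T Z) (h' : Has T Z') : Has T (Z ∪ Z') := by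
  obtain ⟨A, i, _, rfl, hU⟩ := h
  obtain ⟨B, j, _, rfl, hV⟩ := h'
  let d := coprod.desc i j
  let S := d.image
  let ι : S ⟶ X := d.imageι
  let i' : A ⟶ S := coprod.inl ≫ d.toImage
  let j' : B ⟶ S := coprod.inr ≫ d.toImage
  have hi : i' ≫ ι = i := by
    show (coprod.inl ≫ d.toImage) ≫ d.imageι = i
    rw [Category.assoc, Scheme.Hom.toImage_imageι]
    exact coprod.inl_desc i j
  have hj : j' ≫ ι = j := by
    show (coprod.inr ≫ d.toImage) ≫ d.imageι = j
    rw [Category.assoc, Scheme.Hom.toImage_imageι]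
    exact coprod.inr_desc i j
  haveI : IsClosedImmersion (i' ≫ ι) := hi ▸ inferInstance
  haveI : IsClosedImmersion (j' ≫ ι) := hj ▸ inferInstance
  haveI : IsClosedImmersion i' := IsClosedImmersion.of_comp i' ι
  haveI : IsClosedImmersion j' := IsClosedImmersion.of_comp j' ι
  have hii : ∀ x, ι (i' x) = i x := fun x => by rw [← Scheme.Hom.comp_apply, hi]
  have hjj : ∀ x, ι (j' x) = j x := fun x => by rw [← Scheme.Hom.comp_apply, hj]
  have hrange : Set.range ι = Set.range i ∪ Set.range j := by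
    refine Set.Subset.antisymm ?_ ?_
    · show Set.range d.imageι ⊆ _
      rw [Scheme.Hom.imageι, Scheme.IdealSheafData.range_subschemeι, Scheme.Hom.support_ker]
      refine closure_minimal ?_ (i.isClosedEmbedding.isClosed_range.union j.isClosedEmbedding.isClosed_range)
      rintro _ ⟨z, rfl⟩
      obtain ⟨z, rfl⟩ := (coprodMk A B).surjective z
      rcases z with x | y
      · exact Or.inl ⟨x, by rw [coprodMk_inl, ← Scheme.Hom.comp_apply, coprod.inl_desc]⟩
      · exact Or.inr ⟨y, by rw [coprodMk_inr, ← Scheme.Hom.comp_apply, coprod.inr_desc]⟩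
    · rintro _ (⟨x, rfl⟩ | ⟨x, rfl⟩)
      · exact ⟨i' x, hii x⟩
      · exact ⟨j' x, hjj x⟩
  refine ⟨S, ι, inferInstance, hrange, ?_⟩
  obtain ⟨U, hU, hTU⟩ := hU
  obtain ⟨V, hV, hTV⟩ := hV
  obtain ⟨W, hW, hTW⟩ := exists_affine_of_two i' j' (fun s => by
      rcases hrange.le ⟨s, rfl⟩ with ⟨x, hx⟩ | ⟨x, hx⟩
      · exact Or.inl ⟨x, ι.isClosedEmbedding.injective ((hii x).trans hx)⟩
      · exact Or.inr ⟨x, ι.isClosedEmbedding.injective ((hjj x).trans hx)⟩)
    (ι ⁻¹' T) (hT.preimage ι.isClosedEmbedding.injective.injOn)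
    ⟨U, hU, fun x hx => hTU (show i x ∈ T from hii x ▸ hx)⟩
    ⟨V, hV, fun x hx => hTV (show j x ∈ T from hjj x ▸ hx)⟩
  exact ⟨W, hW, hTW⟩

/-- A jointly surjective finite family. -/
theorem exists_affine_of_finite {T : Set X} (hT : T.Finite) (𝒵 : Finset (Set X))
    (hcov : ∀ x : X, ∃ Z ∈ 𝒵, x ∈ Z) (h : ∀ Z ∈ 𝒵, Has T Z) :
    ∃ W : X.Opens, IsAffineOpen W ∧ T ⊆ W := by
  classical
  rcases isEmpty_or_nonempty X with hX | hX
  · exact ⟨⊥, isAffineOpen_bot X, fun x => isEmptyElim x⟩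
  have hne : 𝒵.Nonempty := by
    obtain ⟨x⟩ := hX
    obtain ⟨Z, hZ, -⟩ := hcov x
    exact ⟨Z, hZ⟩
  have key : Has T (⋃ Z ∈ 𝒵, Z) := by
    clear hcov
    induction hne using Finset.Nonempty.cons_induction with
    | singleton Z => simpa using h Z (by simp)
    | cons Z 𝒵 hZ hne ih =>
      simp only [Finset.cons_eq_insert, Finset.set_biUnion_insert]
      exact (h Z (by simp)).union hT (ih fun Z' hZ' => h Z' (by simp [hZ']))
  obtain ⟨A, i, _, hr, U, hU, hTU⟩ := key
  have hsurj : ∀ x : X, x ∈ Set.range i := fun x => by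
    obtain ⟨Z, hZ, hxZ⟩ := hcov x
    rw [hr]
    exact Set.mem_biUnion hZ hxZ
  exact exists_affine_of_two i i (fun x => Or.inl (hsurj x)) T hT ⟨U, hU, hTU⟩ ⟨U, hU, hTU⟩

end AffContLib
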